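import Cfsg.Agent.Lib.Helper11.Fi22a.D0
import Cfsg.Agent.Lib.Helper11.Words

set_option autoImplicit false
set_option maxRecDepth 100000

namespace Cfsg.Agent.Lib.Helper11.Fi22a

noncomputable def fc1_0 (i : ℕ) : ℕ := (Bool.rec (Bool.rec (Bool.rec (fc0_0 i) (fc0_1 i) (Nat.ble 16 i)) (Bool.rec (fc0_2 i) (Bool.rec (fc0_3 i) (fc0_4 i) (Nat.ble 64 i)) (Nat.ble 48 i)) (Nat.ble 32 i)) (Bool.rec (Bool.rec (fc0_5 i) (fc0_6 i) (Nat.ble 96 i)) (Bool.rec (fc0_7 i) (Bool.rec (fc0_8 i) (fc0_9 i) (Nat.ble 144 i)) (Nat.ble 128 i)) (Nat.ble 112 i)) (Nat.ble 80 i))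
noncomputable def fc (i : ℕ) : ℕ := fc1_0 i
noncomputable def sc1_0 (i : ℕ) : ℕ := (Bool.rec (Bool.rec (Bool.rec (sc0_0 i) (sc0_1 i) (Nat.ble 16 i)) (Bool.rec (sc0_2 i) (Bool.rec (sc0_3 i) (sc0_4 i) (Nat.ble 64 i)) (Nat.ble 48 i)) (Nat.ble 32 i)) (Bool.rec (Bool.rec (sc0_5 i) (sc0_6 i) (Nat.ble 96 i)) (Bool.rec (sc0_7 i) (Bool.rec (sc0_8 i) (sc0_9 i) (Nat.ble 144 i)) (Nat.ble 128 i)) (Nat.ble 112 i)) (Nat.ble 80 i))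
noncomputable def sc (i : ℕ) : ℕ := sc1_0 i
noncomputable def nc (i : ℕ) : ℕ := nc0_0 i
noncomputable def cc1_0 (i : ℕ) : ℕ := (Bool.rec (Bool.rec (cc0_0 i) (Bool.rec (cc0_1 i) (cc0_2 i) (Nat.ble 32 i)) (Nat.ble 16 i)) (Bool.rec (Bool.rec (cc0_3 i) (cc0_4 i) (Nat.ble 64 i)) (Bool.rec (cc0_5 i) (cc0_6 i) (Nat.ble 96 i)) (Nat.ble 80 i)) (Nat.ble 48 i))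
noncomputable def cc (i : ℕ) : ℕ := cc1_0 i

noncomputable def INV : ℕ := 372998571739416608
def isH (l : ℕ) : Bool := decide (l ∈ [1, 3, 4, 5, 6, 7, 8, 9, 10])
def gens : List ℕ := [1, 2, 3, 4, 5, 6, 7, 8, 9]
def rt : RT := (.node 20 (.node 9 (.node 5 (.node 3 (.node 2 (.node 1 (.leaf 71 0 [7, 8, 7, 8]) (.leaf 17 0 [1, 8, 1, 8])) (.leaf 35 0 [3, 8, 3, 8])) (.node 4 (.leaf 53 0 [5, 8, 5, 8]) (.leaf 26 0 [2, 8, 2, 8]))) (.node 7 (.node 6 (.leaf 62 0 [6, 8, 6, 8]) (.leaf 72 0 [7, 9, 7, 9])) (.node 8 (.leaf 45 0 [4, 9, 4, 9]) (.leaf 63 0 [6, 9, 6, 9])))) (.node 14 (.node 12 (.node 11 (.node 10 (.leaf 54 0 [5, 9, 5, 9]) (.leaf 36 0 [3, 9, 3, 9])) (.leaf 18 0 [1, 9, 1, 9])) (.node 13 (.leaf 27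 0 [2, 9, 2, 9]) (.leaf 43 1 [7, 4, 7, 4]))) (.node 17 (.node 16 (.node 15 (.leaf 22 0 [2, 4, 2, 4]) (.leaf 81 1 [9, 8, 9, 8, 9, 8])) (.leaf 13 0 [1, 4, 1, 4])) (.node 19 (.node 18 (.leaf 44 1 [8, 4, 8, 4, 8, 4]) (.leaf 32 0 [3, 5, 3, 5])) (.leaf 44 0 [4, 8, 4, 8, 4, 8]))))) (.node 37 (.node 29 (.node 25 (.node 23 (.node 22 (.node 21 (.leaf 52 1 [7, 5, 7, 5]) (.leaf 24 0 [2, 6, 2, 6])) (.leaf 23 0 [2, 5, 2, 5])) (.node 24 (.leaf 42 0 [4, 6, 4, 6]) (.leaf 42 1 [6, 4, 6, 4]))) (.node 27 (.node 26 (.leaf 33 0 [3, 6, 3, 6]) (.leaf 14 0 [1, 5, 1, 5])) (.node 28 (.leaf 53 1 [8, 5, 8, 5]) (.leaf 81 0 [8, 9, 8, 9, 8, 9])))) (.node 33 (.node 31 (.node 30 (.leaf 15 0 [1, 6, 1, 6]) (.leaf 72 1 [9, 7,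 9, 7])) (.node 32 (.leaf 63 1 [9, 6, 9, 6]) (.leaf 45 1 [9, 4, 9, 4]))) (.node 35 (.node 34 (.leaf 61 0 [6, 7, 6, 7, 6, 7]) (.leaf 16 0 [1, 7, 1, 7])) (.node 36 (.leaf 54 1 [9, 5, 9, 5]) (.leaf 41 1 [5, 4, 5, 4, 5, 4]))))) (.node 48 (.node 42 (.node 40 (.node 39 (.node 38 (.leaf 52 0 [5, 7, 5, 7]) (.leaf 25 0 [2, 7, 2, 7])) (.leaf 34 0 [3, 7, 3, 7])) (.node 41 (.leaf 62 1 [8, 6, 8, 6]) (.leaf 43 0 [4, 7, 4, 7]))) (.node 45 (.node 44 (.node 43 (.leaf 51 0 [5, 6, 5, 6, 5, 6]) (.leaf 41 0 [4, 5, 4, 5, 4, 5])) (.leaf 31 0 [3, 4, 3, 4, 3, 4])) (.node 47 (.node 46 (.leaf 31 1 [4, 3, 4, 3, 4, 3]) (.leaf 71 1 [8, 7, 8, 7])) (.leaf 12 0 [1, 3, 1, 3])))) (.node 57 (.node 52 (.node 50 (.node 49 (.leaf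 34 1 [7, 3, 7, 3]) (.leaf 35 1 [8, 3, 8, 3])) (.node 51 (.leaf 51 1 [6, 5, 6, 5, 6, 5]) (.leaf 33 1 [6, 3, 6, 3]))) (.node 55 (.node 54 (.node 53 (.leaf 32 1 [5, 3, 5, 3]) (.leaf 36 1 [9, 3, 9, 3])) (.leaf 22 1 [4, 2, 4, 2])) (.node 56 (.leaf 21 1 [3, 2, 3, 2, 3, 2]) (.leaf 24 1 [6, 2, 6, 2])))) (.node 65 (.node 61 (.node 59 (.node 58 (.leaf 26 1 [8, 2, 8, 2]) (.leaf 16 1 [7, 1, 7, 1])) (.node 60 (.leaf 25 1 [7, 2, 7, 2]) (.leaf 13 1 [4, 1, 4, 1]))) (.node 63 (.node 62 (.leaf 12 1 [3, 1, 3, 1]) (.leaf 27 1 [9, 2, 9, 2])) (.node 64 (.leaf 11 1 [2, 1, 2, 1, 2, 1]) (.leaf 17 1 [8, 1, 8, 1])))) (.node 70 (.node 68 (.node 67 (.node 66 (.leaf 15 1 [6, 1, 6, 1]) (.leaf 23 1 [5, 2, 5, 2])) (.leaf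 61 1 [7, 6, 7, 6, 7, 6])) (.node 69 (.leaf 21 0 [2, 3, 2, 3, 2, 3]) (.leaf 18 1 [9, 1, 9, 1]))) (.node 76 (.node 72 (.node 71 (.leaf 14 1 [5, 1, 5, 1]) (.leaf 11 0 [1, 2, 1, 2, 1, 2])) (.node 74 (.node 73 (.leaf 8 0 [8, 8]) (.leaf 1 0 [1, 1])) (.node 75 (.leaf 5 0 [5, 5]) (.leaf 2 0 [2, 2])))) (.node 84 (.node 80 (.node 78 (.node 77 (.leaf 9 0 [9, 9]) (.leaf 93 3 [5, 6, 7, 8, 2, 3, 4, 5, 6, 7, 8, 2, 3, 4, 5, 6, 7, 8, 2, 3, 4, 5, 6, 7, 8, 2, 3, 4, 5, 6, 7, 8, 2, 3, 4, 5, 6, 7, 8, 2, 3, 4, 5, 6, 7, 8, 2, 3, 4, 5, 6, 7, 8, 2, 3, 4, 5, 6, 7, 8, 2, 3, 4])) (.node 79 (.leaf 4 0 [4, 4]) (.leaf 6 0 [6, 6]))) (.node 82 (.node 81 (.leaf 92 3 [4, 5, 6, 8, 1, 2, 3, 4, 5, 6, 8, 1, 2, 3, 4, 5, 6, 8, 1,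 2, 3, 4, 5, 6, 8, 1, 2, 3, 4, 5, 6, 8, 1, 2, 3, 4, 5, 6, 8, 1, 2, 3, 4, 5, 6, 8, 1, 2, 3, 4, 5, 6, 8, 1, 2, 3, 4, 5, 6, 8, 1, 2, 3]) (.leaf 92 6 [8, 1, 2, 3, 4, 5, 6, 8, 1, 2, 3, 4, 5, 6, 8, 1, 2, 3, 4, 5, 6, 8, 1, 2, 3, 4, 5, 6, 8, 1, 2, 3, 4, 5, 6, 8, 1, 2, 3, 4, 5, 6, 8, 1, 2, 3, 4, 5, 6, 8, 1, 2, 3, 4, 5, 6, 8, 1, 2, 3, 4, 5, 6])) (.node 83 (.leaf 92 5 [6, 8, 1, 2, 3, 4, 5, 6, 8, 1, 2, 3, 4, 5, 6, 8, 1, 2, 3, 4, 5, 6, 8, 1, 2, 3, 4, 5, 6, 8, 1, 2, 3, 4, 5, 6, 8, 1, 2, 3, 4, 5, 6, 8, 1, 2, 3, 4, 5, 6, 8, 1, 2, 3, 4, 5, 6, 8, 1, 2, 3, 4, 5]) (.leaf 92 4 [5, 6, 8, 1, 2, 3, 4, 5, 6, 8, 1, 2, 3, 4, 5, 6, 8, 1, 2, 3, 4, 5, 6, 8, 1, 2, 3, 4, 5, 6, 8, 1, 2, 3, 4, 5, 6, 8, 1, 2, 3, 4, 5, 6, 8,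 1, 2, 3, 4, 5, 6, 8, 1, 2, 3, 4, 5, 6, 8, 1, 2, 3, 4])))) (.node 90 (.node 87 (.node 86 (.node 85 (.leaf 92 2 [3, 4, 5, 6, 8, 1, 2, 3, 4, 5, 6, 8, 1, 2, 3, 4, 5, 6, 8, 1, 2, 3, 4, 5, 6, 8, 1, 2, 3, 4, 5, 6, 8, 1, 2, 3, 4, 5, 6, 8, 1, 2, 3, 4, 5, 6, 8, 1, 2, 3, 4, 5, 6, 8, 1, 2, 3, 4, 5, 6, 8, 1, 2]) (.leaf 91 2 [2, 4, 5, 6, 4, 8, 9, 4, 3, 2, 4, 5, 6, 4, 8, 9, 4, 3, 2, 4, 5, 6, 4, 8, 9, 4, 3, 2, 4, 5, 6, 4, 8, 9, 4, 3, 2, 4, 5, 6, 4, 8, 9, 4, 3, 2, 4, 5, 6, 4, 8, 9, 4, 3, 2, 4, 5, 6, 4, 8, 9, 4, 3, 2, 4, 5, 6, 4, 8, 9, 4, 3, 2, 4, 5, 6, 4, 8, 9, 4, 3, 2, 4, 5, 6, 4, 8, 9, 4, 3])) (.leaf 0 0 [])) (.node 89 (.node 88 (.leaf 3 0 [3, 3]) (.leaf 7 0 [7, 7])) (.leaf 93 1 [3, 4, 5, 6, 7, 8, 2, 3,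 4, 5, 6, 7, 8, 2, 3, 4, 5, 6, 7, 8, 2, 3, 4, 5, 6, 7, 8, 2, 3, 4, 5, 6, 7, 8, 2, 3, 4, 5, 6, 7, 8, 2, 3, 4, 5, 6, 7, 8, 2, 3, 4, 5, 6, 7, 8, 2, 3, 4, 5, 6, 7, 8, 2]))) (.node 94 (.node 92 (.node 91 (.leaf 93 0 [2, 3, 4, 5, 6, 7, 8, 2, 3, 4, 5, 6, 7, 8, 2, 3, 4, 5, 6, 7, 8, 2, 3, 4, 5, 6, 7, 8, 2, 3, 4, 5, 6, 7, 8, 2, 3, 4, 5, 6, 7, 8, 2, 3, 4, 5, 6, 7, 8, 2, 3, 4, 5, 6, 7, 8, 2, 3, 4, 5, 6, 7, 8]) (.leaf 93 5 [7, 8, 2, 3, 4, 5, 6, 7, 8, 2, 3, 4, 5, 6, 7, 8, 2, 3, 4, 5, 6, 7, 8, 2, 3, 4, 5, 6, 7, 8, 2, 3, 4, 5, 6, 7, 8, 2, 3, 4, 5, 6, 7, 8, 2, 3, 4, 5, 6, 7, 8, 2, 3, 4, 5, 6, 7, 8, 2, 3, 4, 5, 6])) (.node 93 (.leaf 94 24 [1, 2, 3, 4, 5, 8, 11, 1, 2, 3, 4, 5, 8, 1, 2, 3, 4, 5, 8, 1, 2, 3, 4,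 5, 8, 1, 2, 3, 4, 5, 8]) (.leaf 91 0 [4, 3, 2, 4, 5, 6, 4, 8, 9, 4, 3, 2, 4, 5, 6, 4, 8, 9, 4, 3, 2, 4, 5, 6, 4, 8, 9, 4, 3, 2, 4, 5, 6, 4, 8, 9, 4, 3, 2, 4, 5, 6, 4, 8, 9, 4, 3, 2, 4, 5, 6, 4, 8, 9, 4, 3, 2, 4, 5, 6, 4, 8, 9, 4, 3, 2, 4, 5, 6, 4, 8, 9, 4, 3, 2, 4, 5, 6, 4, 8, 9, 4, 3, 2, 4, 5, 6, 4, 8, 9]))) (.node 97 (.node 96 (.node 95 (.leaf 93 2 [4, 5, 6, 7, 8, 2, 3, 4, 5, 6, 7, 8, 2, 3, 4, 5, 6, 7, 8, 2, 3, 4, 5, 6, 7, 8, 2, 3, 4, 5, 6, 7, 8, 2, 3, 4, 5, 6, 7, 8, 2, 3, 4, 5, 6, 7, 8, 2, 3, 4, 5, 6, 7, 8, 2, 3, 4, 5, 6, 7, 8, 2, 3]) (.leaf 92 1 [2, 3, 4, 5, 6, 8, 1, 2, 3, 4, 5, 6, 8, 1, 2, 3, 4, 5, 6, 8, 1, 2, 3, 4, 5, 6, 8, 1, 2, 3, 4, 5, 6, 8, 1, 2, 3, 4, 5, 6, 8, 1, 2, 3, 4, 5, 6,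 8, 1, 2, 3, 4, 5, 6, 8, 1, 2, 3, 4, 5, 6, 8, 1])) (.leaf 93 6 [8, 2, 3, 4, 5, 6, 7, 8, 2, 3, 4, 5, 6, 7, 8, 2, 3, 4, 5, 6, 7, 8, 2, 3, 4, 5, 6, 7, 8, 2, 3, 4, 5, 6, 7, 8, 2, 3, 4, 5, 6, 7, 8, 2, 3, 4, 5, 6, 7, 8, 2, 3, 4, 5, 6, 7, 8, 2, 3, 4, 5, 6, 7])) (.node 98 (.leaf 92 0 [1, 2, 3, 4, 5, 6, 8, 1, 2, 3, 4, 5, 6, 8, 1, 2, 3, 4, 5, 6, 8, 1, 2, 3, 4, 5, 6, 8, 1, 2, 3, 4, 5, 6, 8, 1, 2, 3, 4, 5, 6, 8, 1, 2, 3, 4, 5, 6, 8, 1, 2, 3, 4, 5, 6, 8, 1, 2, 3, 4, 5, 6, 8]) (.leaf 91 5 [6, 4, 8, 9, 4, 3, 2, 4, 5, 6, 4, 8, 9, 4, 3, 2, 4, 5, 6, 4, 8, 9, 4, 3, 2, 4, 5, 6, 4, 8, 9, 4, 3, 2, 4, 5, 6, 4, 8, 9, 4, 3, 2, 4, 5, 6, 4, 8, 9, 4, 3, 2, 4, 5, 6, 4, 8, 9, 4, 3, 2, 4, 5, 6, 4, 8, 9, 4, 3, 2, 4, 5, 6,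 4, 8, 9, 4, 3, 2, 4, 5, 6, 4, 8, 9, 4, 3, 2, 4, 5])))))))))))))


end Cfsg.Agent.Lib.Helper11.Fi22a
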